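import Mathlib
import Groth.Prelude.Def_W4c6intromoduliQuartic

/-! The two classes of quartics with a double zero. -/

universe u

open MvPolynomial W4c6intromoduli

namespace Groth.Agent.Quartic

variable {k : Type u} [Field k]

/-- The linear form of a root point. -/
noncomputable def L (a b : k) : MvPolynomial (Fin 2) k := C b * X 0 - C a * X 1

theorem subst_X (M : Matrix (Fin 2) (Fin 2) k) (i : Fin 2) :
    subst M (X i) = C (M i 0) * X 0 + C (M i 1) * X 1 := by
  simp [subst, Fin.sum_univ_two]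

theorem subst_mul (M N : Matrix (Fin 2) (Fin 2) k) (f : MvPolynomial (Fin 2) k) :
    subst N (subst M f) = subst (M * N) f := by
  have : (subst N).comp (subst M) = subst (M * N) := algHom_ext fun i => by
    rw [AlgHom.comp_apply, subst_X, subst_X, map_add, map_mul, map_mul, subst_X, subst_X,
      Matrix.mul_apply, Matrix.mul_apply, Fin.sum_univ_two, Fin.sum_univ_two]
    simp only [← algebraMap_eq, AlgHom.commutes, map_add, map_mul]
    ring
  exact AlgHom.congr_fun this f

theorem subst_one (f : MvPolynomial (Fin 2) k) : subst (1 : Matrix (Fin 2) (Fin 2) k) f = f := by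
  have : subst (1 : Matrix (Fin 2) (Fin 2) k) = AlgHom.id k _ := algHom_ext fun i => by
    rw [subst_X]
    match i with
    | 0 => simp
    | 1 => simp
  exact AlgHom.congr_fun this f

theorem not_square (c : k) (hc : c ≠ 0) (q : MvPolynomial (Fin 2) k) :
    (X 0 ^ 2 * X 1 * (X 0 - X 1) : MvPolynomial (Fin 2) k) ≠ C c * q ^ 2 := by
  intro h
  have h' := congrArg (aeval ![(1 : Polynomial k), Polynomial.X]) h
  simp only [map_mul, map_pow, map_sub, aeval_X, aeval_C, Matrix.cons_val_zero,
    Matrix.cons_val_one, Polynomial.algebraMap_eq, one_pow, one_mul] at h'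
  set g := aeval ![(1 : Polynomial k), Polynomial.X] q
  have h0 : g.eval 0 = 0 := by
    have := congrArg (Polynomial.eval 0) h'
    simp [hc] at this
    exact this
  have := congrArg (fun r => (Polynomial.derivative r).eval 0) h'
  simp [h0, Polynomial.derivative_pow] at this

theorem prop_smul {a b a' b' : k} (hne : a ≠ 0 ∨ b ≠ 0) (hne' : a' ≠ 0 ∨ b' ≠ 0) (h : a * b' = a' * b) :
    ∃ c : k, c ≠ 0 ∧ a' = c * a ∧ b' = c * b := by
  by_cases ha : a = 0
  · have hb : b ≠ 0 := hne.resolve_left (by simp [ha])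
    have ha' : a' = 0 := by
      rw [ha, zero_mul] at h
      exact (mul_eq_zero.mp h.symm).resolve_right hb
    refine ⟨b' / b, div_ne_zero (hne'.resolve_left (by simp [ha'])) hb, by simp [ha, ha'], ?_⟩
    field_simp
  · refine ⟨a' / a, div_ne_zero ?_ ha, by field_simp, ?_⟩
    · intro ha'
      rw [ha', zero_mul] at h
      exact (hne'.resolve_left (by simp [ha'])) ((mul_eq_zero.mp h).resolve_left ha)
    · field_simp
      linear_combination h

theorem main (la mu : Fin 4 → k)
    (hne : ∀ i, la i ≠ 0 ∨ mu i ≠ 0) (hd : disc la mu = 0)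
    (h3z : ∀ i j l : Fin 4, i ≠ j → j ≠ l → i ≠ l →
      ¬ (la i * mu j = la j * mu i ∧ la j * mu l = la l * mu j)) :
    Xor
      (∃ (M : Matrix (Fin 2) (Fin 2) k) (c : k), IsUnit M.det ∧ c ≠ 0 ∧
        binForm la mu = C c * subst M (X 0 ^ 2 * X 1 * (X 0 - X 1)))
      (∃ (M : Matrix (Fin 2) (Fin 2) k) (c : k), IsUnit M.det ∧ c ≠ 0 ∧
        binForm la mu = C c * subst M (X 0 ^ 2 * X 1 ^ 2)) := by
  obtain ⟨⟨i, j⟩, hij, hp⟩ : ∃ p : Fin 4 × Fin 4, p.1 < p.2 ∧ la p.2 * mu p.1 - la p.1 * mu p.2 = 0 := by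
    obtain ⟨p, hp, h0⟩ := Finset.prod_eq_zero_iff.mp hd
    exact ⟨p, (Finset.mem_filter.mp hp).2, pow_eq_zero_iff (n := 2) (by norm_num) |>.mp h0⟩
  simp only at hij hp
  rw [sub_eq_zero] at hp
  obtain ⟨a, b, hia, hja, hib, hjb, hab, hu⟩ : ∃ a b : Fin 4, i ≠ a ∧ j ≠ a ∧ i ≠ b ∧ j ≠ b ∧ a ≠ b ∧
      (Finset.univ : Finset (Fin 4)) = {i, j, a, b} := by
    clear hp
    revert hij
    revert i j
    decide
  have hprod : binForm la mu = L (la i) (mu i) * L (la j) (mu j) * L (la a) (mu a) * L (la b) (mu b) := by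
    unfold binForm
    rw [hu, Finset.prod_insert, Finset.prod_insert, Finset.prod_pair hab]
    · simp only [L]; ring
    · simp [hja, hjb]
    · simp [hij.ne, hia, hib]
  obtain ⟨t, ht, hta, htm⟩ := prop_smul (hne i) (hne j) hp.symm
  have hj : L (la j) (mu j) = C t * L (la i) (mu i) := by
    simp only [L, hta, htm, map_mul]; ring
  have hia' : la i * mu a - la a * mu i ≠ 0 := fun h => h3z j i a hij.ne'.symm.symm hia hja
    ⟨hp, sub_eq_zero.mp h⟩
  have hib' : la i * mu b - la b * mu i ≠ 0 := fun h => h3z j i b hij.ne' hib hjb ⟨hp, sub_eq_zero.mp h⟩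
  have excl : ¬ ((∃ (M : Matrix (Fin 2) (Fin 2) k) (c : k), IsUnit M.det ∧ c ≠ 0 ∧
        binForm la mu = C c * subst M (X 0 ^ 2 * X 1 * (X 0 - X 1))) ∧
      (∃ (M : Matrix (Fin 2) (Fin 2) k) (c : k), IsUnit M.det ∧ c ≠ 0 ∧
        binForm la mu = C c * subst M (X 0 ^ 2 * X 1 ^ 2))) := by
    rintro ⟨⟨M, c, hM, hc, h1⟩, ⟨M', c', -, hc', h2⟩⟩
    have h := congrArg (subst M⁻¹) (h1.symm.trans h2)
    rw [map_mul (subst M⁻¹) (C c), map_mul (subst M⁻¹) (C c'), subst_mul, Matrix.mul_nonsing_inv _ hM, subst_one, ← mul_pow, map_pow,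
      map_pow] at h
    simp only [← algebraMap_eq, AlgHom.commutes] at h
    simp only [algebraMap_eq] at h
    have h' := congrArg (fun r => C c⁻¹ * r) h
    simp only [← mul_assoc, ← map_mul, inv_mul_cancel₀ hc, map_one, one_mul] at h'
    exact not_square _ (mul_ne_zero (inv_ne_zero hc) hc') _ (by simpa [map_mul] using h')
  by_cases hprop : la a * mu b - la b * mu a = 0
  · obtain ⟨s, hs, hsa, hsm⟩ := prop_smul (hne a) (hne b) (sub_eq_zero.mp hprop)
    have hb : L (la b) (mu b) = C s * L (la a) (mu a) := by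
      simp only [L, hsa, hsm, map_mul]; ring
    have h2 : ∃ (M : Matrix (Fin 2) (Fin 2) k) (c : k), IsUnit M.det ∧ c ≠ 0 ∧
        binForm la mu = C c * subst M (X 0 ^ 2 * X 1 ^ 2) := by
      refine ⟨!![mu i, -la i; mu a, -la a], t * s, ?_, mul_ne_zero ht hs, ?_⟩
      · rw [isUnit_iff_ne_zero, Matrix.det_fin_two_of]
        exact fun h => hia' (by linear_combination h)
      · rw [hprod, hj, hb]
        simp only [map_mul, map_pow, subst_X, L]
        simp
        ring
    exact Or.inr ⟨h2, fun h1 => excl ⟨h1, h2⟩⟩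
  · set D := la i * mu a - la a * mu i with hD
    set α := (la b * mu a - la a * mu b) / D with hα
    set β := (la i * mu b - la b * mu i) / D with hβ
    have hα0 : α ≠ 0 := div_ne_zero (fun h => hprop (by linear_combination -h)) hia'
    have hβ0 : β ≠ 0 := div_ne_zero hib' hia'
    have hbm : mu b = α * mu i + β * mu a := by
      rw [hα, hβ, div_mul_eq_mul_div, div_mul_eq_mul_div, ← add_div, eq_div_iff hia']
      ring
    have hbl : la b = α * la i + β * la a := by
      rw [hα, hβ, div_mul_eq_mul_div, div_mul_eq_mul_div, ← add_div, eq_div_iff hia']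
      ring
    have h1 : ∃ (M : Matrix (Fin 2) (Fin 2) k) (c : k), IsUnit M.det ∧ c ≠ 0 ∧
        binForm la mu = C c * subst M (X 0 ^ 2 * X 1 * (X 0 - X 1)) := by
      refine ⟨!![α * mu i, -(α * la i); -(β * mu a), β * la a], -(t / (α ^ 2 * β)), ?_,
        neg_ne_zero.mpr (div_ne_zero ht (by positivity)), ?_⟩
      · rw [isUnit_iff_ne_zero, Matrix.det_fin_two_of]
        intro h
        exact (mul_ne_zero (mul_ne_zero hα0 hβ0) hia') (by linear_combination -h)
      · have hC : C (t : k) = -(C (-(t / (α ^ 2 * β))) * (C α ^ 2 * C β) : MvPolynomial (Fin 2) k) := by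
          rw [← map_pow, ← map_mul, ← map_mul, ← map_neg]
          congr 1
          field_simp
        rw [hprod, hj, hC]
        simp only [map_mul, map_pow, map_sub, subst_X, L, hbm, hbl]
        simp
        ring
    exact Or.inl ⟨h1, fun h2 => excl ⟨h1, h2⟩⟩

end Groth.Agent.Quartic
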